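import Groth.Agent.CAlg9.NFlat.Poincare

/-!
Numbers of generators of the normally flat pieces are invariant under generization.
-/

set_option autoImplicit false
set_option linter.style.haveILetI false
universe u

open IsLocalRing

namespace Groth.Agent.CAlg9.NFlat.Poincare

variable {A : Type u} [CommRing A] {M : Type u} [AddCommGroup M] [Module A M]

/-- generators whose relations lie in a proper ideal are minimal -/
theorem card_le_of_coeff [IsNoetherianRing A] [IsLocalRing A] [Module.Finite A M] {Q : Ideal A} (hQ : Q ≠ ⊤)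
    {X : Submodule A M} {ι : Type} [Fintype ι]
    (w : ι → M) (hwX : ∀ i, w i ∈ X) (hw : Submodule.span A (Set.range w) = X)
    (h : ∀ a : ι → A, ∑ i, a i • w i ∈ Q • X → ∀ i, a i ∈ Q) :
    Fintype.card ι ≤ X.spanFinrank := by
  classical
  let k := A ⧸ maximalIdeal A
  let V := Qt (maximalIdeal A) X
  let : Field k := Ideal.Quotient.field _
  have : Module.Finite k V := Module.Finite.of_restrictScalars_finite A _ _
  let Φ : (ι → k) →ₗ[k] V := Fintype.linearCombination k (fun i => (Submodule.Quotient.mk (⟨w i, hwX i⟩ : ↥X) : V))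
  have hmk : ∀ c : ι → A, Φ (fun i => Ideal.Quotient.mk _ (c i)) =
      Submodule.Quotient.mk (∑ i, c i • (⟨w i, hwX i⟩ : ↥X)) := fun c => by
    rw [← Submodule.mkQ_apply, map_sum, Fintype.linearCombination_apply]
    refine Finset.sum_congr rfl fun i _ => ?_
    rw [map_smul, Submodule.mkQ_apply]
    exact algebraMap_smul k (c i) _
  have hΦ : Function.Injective Φ := by
    rw [injective_iff_map_eq_zero]
    intro c hc
    choose a ha using fun i => Ideal.Quotient.mk_surjective (c i)
    obtain rfl : c = fun i => Ideal.Quotient.mk (maximalIdeal A) (a i) := funext fun i => (ha i).symm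
    rw [hmk, Submodule.Quotient.mk_eq_zero, Submodule.mem_smul_top_iff] at hc
    have hc' : ∑ i, a i • w i ∈ maximalIdeal A • Submodule.span A (Set.range w) := by
      rw [hw]; simpa using hc
    rw [Submodule.mem_ideal_smul_span_iff_exists_sum] at hc'
    obtain ⟨b, hb, hbs⟩ := hc'
    rw [Finsupp.sum_fintype _ _ (by simp)] at hbs
    have h1 := h (fun i => a i - b i) (by simp [sub_smul, hbs])
    funext i
    have h2 := Ideal.add_mem _ (le_maximalIdeal hQ (h1 i)) (hb i)
    rw [sub_add_cancel] at h2
    exact Ideal.Quotient.eq_zero_iff_mem.2 h2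
  rw [IsLocalRing.spanFinrank_eq_finrank_quotient X (IsNoetherian.noetherian X)]
  have := LinearMap.finrank_le_finrank_of_injective hΦ
  rwa [Module.finrank_pi] at this

variable [IsNoetherianRing A] [Module.Finite A M]

variable (S : Submonoid A) {O F : Type u} [CommRing O] [Algebra A O] [IsLocalization S O]
  [AddCommGroup F] [Module A F] [Module O F] [IsScalarTower A O F] (g : M →ₗ[A] F) [IsLocalizedModule S g]

include S g in
set_option maxHeartbeats 1000000 in
/-- `μ_O (K^h F) = μ_{O'} (K'^h F')` for a further localization `O'`. -/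
theorem spanFinrank_generize [IsLocalRing O] {S' : Submonoid A} (hS : S ≤ S')
    {O' F' : Type u} [CommRing O'] [IsLocalRing O'] [Algebra A O'] [IsLocalization S' O']
    [AddCommGroup F'] [Module A F'] [Module O' F'] [IsScalarTower A O' F'] (g' : M →ₗ[A] F') [IsLocalizedModule S' g']
    (I : Ideal A) (hI' : I.map (algebraMap A O') ≠ ⊤) (h : ℕ)
    (hnf : EGA4.IsNormallyFlat (I.map (algebraMap A O)) F) :
    ((I.map (algebraMap A O)) ^ h • (⊤ : Submodule O F)).spanFinrank =
      ((I.map (algebraMap A O')) ^ h • (⊤ : Submodule O' F')).spanFinrank := by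
  classical
  have : IsNoetherianRing O := IsLocalization.isNoetherianRing S O inferInstance
  have : IsNoetherianRing O' := IsLocalization.isNoetherianRing S' O' inferInstance
  have : Module.Finite O F := Module.Finite.of_isLocalizedModule S g
  have : Module.Finite O' F' := Module.Finite.of_isLocalizedModule S' g'
  let K := I.map (algebraMap A O)
  let K' := I.map (algebraMap A O')
  have hK : K ≠ ⊤ := by
    intro hK
    have h1 : (1 : O) ∈ I.map (algebraMap A O) := by rw [show I.map (algebraMap A O) = ⊤ from hK]; trivial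
    obtain ⟨⟨i, s⟩, hs⟩ := (IsLocalization.mem_map_algebraMap_iff S O).1 h1
    obtain ⟨c, hc⟩ := (IsLocalization.eq_iff_exists S O).1 ((one_mul _).symm.trans hs)
    exact hI' (Ideal.eq_top_of_isUnit_mem _
      (show algebraMap A O' ((c : A) * s) ∈ K' from hc ▸ Ideal.mem_map_of_mem _ (I.mul_mem_left _ i.2))
      (IsLocalization.map_units O' ⟨(c : A) * s, hS (mul_mem c.2 s.2)⟩))
  let X : Submodule O F := K ^ h • ⊤
  obtain ⟨v, hv⟩ := exists_gens X
  have hvX : ∀ i, v i ∈ (I.map (algebraMap A O)) ^ h • (⊤ : Submodule O F) := fun i => by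
    have h1 : v i ∈ Submodule.span O (Set.range v) := Submodule.subset_span (Set.mem_range_self i)
    rw [hv] at h1
    exact h1
  have hv' : ∀ i, ∃ s : S, ∃ x ∈ I ^ h • (⊤ : Submodule A M), (s : A) • v i = g x := fun i => by
    exact EGA4H10.exists_smul_eq_map S I O g (hvX i)
  choose s w hwI hsw using hv'
  let wO : Fin X.spanFinrank → F := fun i => g (w i)
  have hwO : Submodule.span O (Set.range wO) = X := by
    refine le_antisymm (Submodule.span_le.2 ?_) (hv.ge.trans (Submodule.span_le.2 ?_))
    · rintro _ ⟨i, rfl⟩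
      exact EGA4H10.map_mem_pow_smul I O g (hwI i)
    · rintro _ ⟨i, rfl⟩
      have h1 : v i = (IsLocalization.mk' O 1 (s i)) • wO i := by
        show v i = (IsLocalization.mk' O 1 (s i)) • g (w i)
        rw [← hsw i, ← algebraMap_smul O (s i : A) (v i), smul_smul, IsLocalization.mk'_spec, map_one, one_smul]
      rw [h1]
      exact Submodule.smul_mem _ _ (Submodule.subset_span ⟨i, rfl⟩)
  have key := coeff_mem hK (hnf h) wO (le_of_eq (Fintype.card_fin _)) hwO
  let X' : Submodule O' F' := K' ^ h • ⊤
  let w' : Fin X.spanFinrank → F' := fun i => g' (w i)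
  have hw'X : ∀ i, w' i ∈ X' := fun i => EGA4H10.map_mem_pow_smul I O' g' (hwI i)
  have hw' : Submodule.span O' (Set.range w') = X' := by
    refine le_antisymm (Submodule.span_le.2 (Set.range_subset_iff.2 hw'X)) fun z hz => ?_
    obtain ⟨t, x, hx, htx⟩ := EGA4H10.exists_smul_eq_map S' I O' g' hz
    have hgx : g x ∈ Submodule.span O (Set.range wO) := hwO.ge (EGA4H10.map_mem_pow_smul I O g hx)
    obtain ⟨c, hc⟩ := (Submodule.mem_span_range_iff_exists_fun O).1 hgx
    obtain ⟨u, hu⟩ := IsLocalization.exist_integer_multiples_of_finite S c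
    choose d hd using hu
    have h1 : g ((u : A) • x - ∑ i, d i • w i) = 0 := by
      rw [map_sub, map_smul, map_sum, ← hc, Finset.smul_sum, sub_eq_zero]
      refine Finset.sum_congr rfl fun i _ => ?_
      rw [map_smul, ← algebraMap_smul O (d i), hd i, smul_assoc]
    obtain ⟨r, hr⟩ := (IsLocalizedModule.eq_zero_iff S g).1 h1
    rw [Submonoid.smul_def, smul_sub, sub_eq_zero] at hr
    have h2 : algebraMap A O' ((r : A) * u * t) • z = g' ((r : A) • ∑ i, d i • w i) := by
      rw [algebraMap_smul, mul_smul, htx, ← map_smul, mul_smul, hr]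
    have h3 : IsUnit (algebraMap A O' ((r : A) * u * t)) :=
      IsLocalization.map_units O' ⟨(r : A) * u * t, mul_mem (hS (mul_mem r.2 u.2)) t.2⟩
    obtain ⟨e, he⟩ := h3
    have h4 : z = (↑e⁻¹ : O') • g' ((r : A) • ∑ i, d i • w i) := by
      rw [← h2, ← he, smul_smul, Units.inv_mul, one_smul]
    rw [h4]
    refine Submodule.smul_mem _ _ ?_
    rw [map_smul, map_sum, ← algebraMap_smul O' (r : A)]
    refine Submodule.smul_mem _ _ (Submodule.sum_mem _ fun i _ => ?_)
    rw [map_smul, ← algebraMap_smul O' (d i)]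
    exact Submodule.smul_mem _ _ (Submodule.subset_span ⟨i, rfl⟩)
  have key' : ∀ a : Fin X.spanFinrank → O', ∑ i, a i • w' i ∈ K' • X' → ∀ i, a i ∈ K' := by
    intro a ha i
    obtain ⟨u, hu⟩ := IsLocalization.exist_integer_multiples_of_finite S' a
    choose d hd using hu
    have h1 : g' (∑ i, d i • w i) ∈ K' ^ (h + 1) • (⊤ : Submodule O' F') := by
      rw [pow_succ', Submodule.mul_smul]
      have : g' (∑ i, d i • w i) = algebraMap A O' u • ∑ i, a i • w' i := by
        rw [map_sum, Finset.smul_sum]
        refine Finset.sum_congr rfl fun i _ => ?_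
        rw [map_smul, ← algebraMap_smul O' (d i), hd i, smul_assoc, algebraMap_smul]
      rw [this]
      exact Submodule.smul_mem _ _ ha
    obtain ⟨t, x, hx, htx⟩ := EGA4H10.exists_smul_eq_map S' I O' g' h1
    rw [← map_smul, IsLocalizedModule.eq_iff_exists S' g'] at htx
    obtain ⟨r, hr⟩ := htx
    rw [Submonoid.smul_def, Submonoid.smul_def] at hr
    have h2 : g (((r : A) * t) • ∑ i, d i • w i) ∈ K ^ (h + 1) • (⊤ : Submodule O F) := by
      rw [mul_smul, hr, map_smul, ← algebraMap_smul O (r : A)]
      exact Submodule.smul_mem _ _ (EGA4H10.map_mem_pow_smul I O g hx)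
    rw [map_smul, map_sum, Finset.smul_sum, pow_succ', Submodule.mul_smul] at h2
    have h3 := key (fun i => algebraMap A O ((r : A) * t * d i)) (by
      convert h2 using 1
      refine Finset.sum_congr rfl fun i _ => ?_
      rw [map_smul, algebraMap_smul, smul_smul]) i
    obtain ⟨v0, hv0, hvI⟩ := (IsLocalization.algebraMap_mem_map_algebraMap_iff S O I _).1 h3
    have h4 : IsUnit (algebraMap A O' (v0 * r * t * u)) :=
      IsLocalization.map_units O' ⟨v0 * r * t * u, mul_mem (mul_mem (mul_mem (hS hv0) r.2) t.2) u.2⟩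
    refine (Ideal.unit_mul_mem_iff_mem K' h4).1 ?_
    have h5 : algebraMap A O' (v0 * r * t * u) * a i = algebraMap A O' (v0 * ((r : A) * t * d i)) := by
      simp only [map_mul, hd i, Algebra.smul_def]
      ring
    rw [h5]
    exact Ideal.mem_map_of_mem _ hvI
  refine le_antisymm ?_ ?_
  · have := card_le_of_coeff hI' w' hw'X hw' key'
    rw [Fintype.card_fin] at this
    exact this
  · show X'.spanFinrank ≤ X.spanFinrank
    rw [← hw']
    refine (Submodule.spanFinrank_span_le_ncard_of_finite (Set.finite_range w')).trans ?_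
    rw [← Set.image_univ]
    exact (Set.ncard_image_le Set.finite_univ).trans (by simp)

end Groth.Agent.CAlg9.NFlat.Poincare
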