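import Groth.Prelude.Def_EGA4b
import Groth.Prelude.Def_Coh
import Groth.Agent.CAlg9.NFlat.Generize
import Groth.Agent.S2892
import Groth.Agent.Div89.Stalk
import Groth.Agent.ZClos93.Depth
import Groth.Agent.FlatMor68.FlatInfNbhd
import Groth.Agent.Cyc90.MaxPts
import Groth.Agent.CAlg9.CIT.RegFibre

/-!
The Poincare series is constant along a connected regular centre of normal flatness.
-/

set_option autoImplicit false
set_option backward.isDefEq.respectTransparency.types false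
set_option linter.style.haveILetI false
universe u

open CategoryTheory AlgebraicGeometry TopologicalSpace IsLocalRing

namespace Groth.Agent.CAlg9.NFlat.Connected

variable {X : Scheme.{u}} [IsLocallyNoetherian X] (𝓘 : X.IdealSheafData) (F : X.Modules)

/-- number of generators of the `h`-th piece -/
noncomputable def mu (y : ↥𝓘.subscheme) (h : ℕ) : ℕ :=
  ((RingHom.ker (𝓘.subschemeι.stalkMap y).hom) ^ h •
    (⊤ : Submodule (X.presheaf.stalk (𝓘.subschemeι y)) (F.presheaf.stalk (𝓘.subschemeι y)))).spanFinrank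

theorem ker_eq (U : X.affineOpens) (y : ↥𝓘.subscheme) (hy : 𝓘.subschemeι y ∈ U.1) :
    letI := Div89.stalkAlg U.1 (𝓘.subschemeι y) hy
    RingHom.ker (𝓘.subschemeι.stalkMap y).hom =
      (𝓘.ideal U).map (algebraMap Γ(X, U.1) (X.presheaf.stalk (𝓘.subschemeι y))) := by
  rw [FlatMor68.FlatInfNbhd.ker_stalkMap_closedImmersion, Div89.stalkIdeal_eq _ U _ hy,
    Scheme.IdealSheafData.ker_subschemeι]
  rfl

theorem mu_generize (hF : Coh.IsCoh F) {y η : ↥𝓘.subscheme} (hη : η ⤳ y)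
    (hnf : EGA4.IsNormallyFlat (RingHom.ker (𝓘.subschemeι.stalkMap y).hom) ↑(F.presheaf.stalk (𝓘.subschemeι y)))
    (h : ℕ) : mu 𝓘 F y h = mu 𝓘 F η h := by
  obtain ⟨U, hyU⟩ := Div89.exists_affine_mem (𝓘.subschemeι y)
  have hsp : 𝓘.subschemeι η ⤳ 𝓘.subschemeι y := hη.map 𝓘.subschemeι.continuous
  have hηU : 𝓘.subschemeι η ∈ U.1 := hsp.mem_open U.1.2 hyU
  have : IsNoetherianRing Γ(X, U.1) := IsLocallyNoetherian.component_noetherian U
  have := ZClos93.finite_sections_of_coh hF U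
  letI := Div89.stalkAlg U.1 (𝓘.subschemeι y) hyU
  letI := Div89.stalkAlg U.1 (𝓘.subschemeι η) hηU
  letI := Div89.stalkModule F U.1 (𝓘.subschemeι y) hyU
  letI := Div89.stalkModule F U.1 (𝓘.subschemeι η) hηU
  have := Div89.isScalarTower_stalk F U.1 (𝓘.subschemeι y) hyU
  have := Div89.isScalarTower_stalk F U.1 (𝓘.subschemeι η) hηU
  have := Div89.primeAt_isPrime U (𝓘.subschemeι y) hyU
  have := Div89.primeAt_isPrime U (𝓘.subschemeι η) hηU
  have := Div89.isLocalization_stalk U (𝓘.subschemeι y) hyU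
  have := Div89.isLocalization_stalk U (𝓘.subschemeι η) hηU
  have := Div89.isLocalizedModule_germLin F hF.1 U (𝓘.subschemeι y) hyU
  have := Div89.isLocalizedModule_germLin F hF.1 U (𝓘.subschemeι η) hηU
  have hle : (Div89.primeAt U (𝓘.subschemeι y) hyU).primeCompl ≤ (Div89.primeAt U (𝓘.subschemeι η) hηU).primeCompl :=
    fun a ha ha' => ha ((Div89.specializes_iff_primeAt_le U hyU hηU).1 hsp ha')
  have hne : (𝓘.ideal U).map (algebraMap Γ(X, U.1) (X.presheaf.stalk (𝓘.subschemeι η))) ≠ ⊤ := by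
    rw [← ker_eq 𝓘 U η hηU]
    exact RingHom.ker_ne_top _
  rw [ker_eq 𝓘 U y hyU] at hnf
  simp only [mu]
  rw [ker_eq 𝓘 U y hyU, ker_eq 𝓘 U η hηU]
  exact Poincare.spanFinrank_generize (Div89.primeAt U (𝓘.subschemeι y) hyU).primeCompl
    (Div89.germLin F U.1 (𝓘.subschemeι y) hyU) hle (Div89.germLin F U.1 (𝓘.subschemeι η) hηU) (𝓘.ideal U) hne h hnf

theorem exists_mu_const [ConnectedSpace ↥𝓘.subscheme] (hF : Coh.IsCoh F)
    (hnf : ∀ y : ↥𝓘.subscheme, EGA4.IsNormallyFlat (RingHom.ker (𝓘.subschemeι.stalkMap y).hom) ↑(F.presheaf.stalk (𝓘.subschemeι y))) :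
    ∃ R : ℕ → ℕ, ∀ y, mu 𝓘 F y = R := by
  have : IsLocallyNoetherian 𝓘.subscheme := LocallyOfFiniteType.isLocallyNoetherian 𝓘.subschemeι
  have hc : IsLocallyConstant (mu 𝓘 F) := by
    rw [IsLocallyConstant.iff_exists_open]
    intro y
    obtain ⟨W, hyW, hW⟩ := Cyc90.exists_nhd_maximal_specializes (X := 𝓘.subscheme) y
    refine ⟨W, W.2, hyW, fun y' hy' => funext fun h => ?_⟩
    obtain ⟨η, hη, hmax⟩ := CIT.exists_maximal_generization y'
    have hηy : η ⤳ y := hW η (hη.mem_open W.2 hy') hmax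
    rw [mu_generize 𝓘 F hF hη (hnf y') h, mu_generize 𝓘 F hF hηy (hnf y) h]
  obtain ⟨y₀⟩ := (inferInstance : Nonempty ↥𝓘.subscheme)
  exact ⟨mu 𝓘 F y₀, fun y => hc.apply_eq_of_preconnectedSpace y y₀⟩

end Groth.Agent.CAlg9.NFlat.Connected
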